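import Mathlib
import Groth.Agent.Lib.T1Base26.Ext

/-!
# `Ext` commutes with flat base change (Noetherian ring, finite first argument)
-/

set_option autoImplicit false
set_option linter.style.haveILetI false
universe u

open TensorProduct Function CategoryTheory

namespace GrothLib.ExtBC

variable {A : Type u} [CommRing A] (B : Type u) [CommRing B] [Algebra A B]
  (N : Type u) [AddCommGroup N] [Module A N]

/-- the comparison `B ⊗ Hom(M, N) → Hom(B ⊗ M, B ⊗ N)` -/
noncomputable def κ (M : Type u) [AddCommGroup M] [Module A M] :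
    B ⊗[A] (M →ₗ[A] N) →ₗ[B] (B ⊗[A] M →ₗ[B] B ⊗[A] N) :=
  (LinearMap.baseChangeHom A B M N).liftBaseChange B

variable {B N}

theorem κ_tmul {M : Type u} [AddCommGroup M] [Module A M] (b : B) (f : M →ₗ[A] N) :
    κ B N M (b ⊗ₜ f) = b • f.baseChange B := LinearMap.liftBaseChange_tmul _ _ _ _

theorem κ_natural {K F : Type u} [AddCommGroup K] [Module A K] [AddCommGroup F] [Module A F] (d : K →ₗ[A] F)
    (t : B ⊗[A] (F →ₗ[A] N)) :
    κ B N K ((LinearMap.lcomp A N d).baseChange B t) = (κ B N F t).comp (d.baseChange B) := by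
  induction t using TensorProduct.induction_on with
  | zero => simp
  | add a b ha hb => simp only [map_add, ha, hb, LinearMap.add_comp]
  | tmul b f =>
    rw [LinearMap.baseChange_tmul, κ_tmul, κ_tmul, LinearMap.smul_comp, ← LinearMap.baseChange_comp]
    rfl

theorem bijective_κ_pi (n : ℕ) : Bijective (κ (A := A) B N (Fin n → A)) := by
  classical
  let ψ : Fin n → (B ⊗[A] N →ₗ[A] B ⊗[A] ((Fin n → A) →ₗ[A] N)) := fun i =>
    LinearMap.lTensor B (LinearMap.smulRightₗ (LinearMap.proj i : (Fin n → A) →ₗ[A] A))
  let inv : (B ⊗[A] (Fin n → A) →ₗ[B] B ⊗[A] N) → B ⊗[A] ((Fin n → A) →ₗ[A] N) := fun φ =>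
    ∑ i, ψ i (φ ((1 : B) ⊗ₜ (Pi.single i 1 : Fin n → A)))
  have hbasis : ∀ v : Fin n → A, ∑ i, v i • (Pi.single i (1 : A) : Fin n → A) = v := fun v => by
    funext j; simp [Finset.sum_apply, Pi.single_apply]
  refine bijective_iff_has_inverse.2 ⟨inv, fun t => ?_, fun φ => ?_⟩
  · induction t using TensorProduct.induction_on with
    | zero => simp [inv]
    | add a b ha hb =>
      simp only [inv] at ha hb ⊢
      simp only [map_add, LinearMap.add_apply, Finset.sum_add_distrib, ha, hb]
    | tmul b f =>
      simp only [inv, κ_tmul, LinearMap.smul_apply, LinearMap.baseChange_tmul, TensorProduct.smul_tmul',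
        smul_eq_mul, mul_one, ψ, LinearMap.lTensor_tmul, ← TensorProduct.tmul_sum]
      congr 1
      refine LinearMap.ext fun v => ?_
      rw [LinearMap.sum_apply]
      conv_rhs => rw [← hbasis v, map_sum]
      exact Finset.sum_congr rfl fun i _ => by simp
  · refine TensorProduct.AlgebraTensorModule.ext fun b v => ?_
    have key : ∀ (i : Fin n) (w : B ⊗[A] N), κ B N (Fin n → A) (ψ i w) ((1 : B) ⊗ₜ v) = v i • w := fun i w => by
      induction w using TensorProduct.induction_on with
      | zero => simp
      | add a b ha hb => simp only [map_add, LinearMap.add_apply, ha, hb, smul_add]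
      | tmul c x =>
        show κ B N (Fin n → A) (c ⊗ₜ _) _ = _
        rw [κ_tmul, LinearMap.smul_apply, LinearMap.baseChange_tmul, TensorProduct.smul_tmul', smul_eq_mul, mul_one]
        show c ⊗ₜ[A] (v i • x) = _
        rw [TensorProduct.tmul_smul]
    rw [show b ⊗ₜ[A] v = b • ((1 : B) ⊗ₜ[A] v) by rw [TensorProduct.smul_tmul', smul_eq_mul, mul_one],
      map_smul, map_smul]
    congr 1
    show κ B N (Fin n → A) (inv φ) _ = _
    simp only [inv, map_sum, LinearMap.sum_apply, key]
    conv_rhs => rw [← hbasis v, TensorProduct.tmul_sum, map_sum]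
    refine Finset.sum_congr rfl fun i _ => ?_
    rw [TensorProduct.tmul_smul, LinearMap.map_smul_of_tower]

theorem bijective_κ [IsNoetherianRing A] [Module.Flat A B] (M : Type u) [AddCommGroup M] [Module A M]
    [Module.Finite A M] : Bijective (κ (A := A) B N M) := by
  obtain ⟨n, π, hπ⟩ := Module.Finite.exists_fin' A M
  haveI : Module.Finite A (LinearMap.ker π) := Module.Finite.iff_fg.2 (IsNoetherian.noetherian _)
  obtain ⟨m, ρ, hρ⟩ := Module.Finite.exists_fin' A (LinearMap.ker π)
  let r : (Fin m → A) →ₗ[A] (Fin n → A) := (LinearMap.ker π).subtype.comp ρ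
  have hex : Exact r π := by
    rw [LinearMap.exact_iff]
    show LinearMap.ker π = LinearMap.range ((LinearMap.ker π).subtype.comp ρ)
    rw [LinearMap.range_comp, LinearMap.range_eq_top.2 hρ, Submodule.map_top, Submodule.range_subtype]
  let π' := LinearMap.lcomp A N π
  let r' := LinearMap.lcomp A N r
  have hπ' : Injective π' := fun f g hfg => LinearMap.ext fun x => by
    obtain ⟨y, rfl⟩ := hπ x
    exact LinearMap.congr_fun hfg y
  have hex' : Exact π' r' := by
    intro f
    constructor
    · intro hf
      have hk : LinearMap.ker π ≤ LinearMap.ker f := fun x hx => by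
        obtain ⟨y, rfl⟩ := (hex x).1 hx
        exact LinearMap.congr_fun hf y
      refine ⟨((LinearMap.ker π).liftQ f hk).comp (π.quotKerEquivOfSurjective hπ).symm.toLinearMap,
        LinearMap.ext fun x => ?_⟩
      show (LinearMap.ker π).liftQ f hk ((π.quotKerEquivOfSurjective hπ).symm (π x)) = f x
      rw [show π x = π.quotKerEquivOfSurjective hπ (Submodule.Quotient.mk x) from rfl, LinearEquiv.symm_apply_apply]
      rfl
    · rintro ⟨g, rfl⟩
      exact LinearMap.ext fun x => by
        show g (π (r x)) = 0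
        rw [hex.apply_apply_eq_zero, map_zero]
  have hπB : Injective (π'.baseChange B) := Module.Flat.lTensor_preserves_injective_linearMap π' hπ'
  have hexB : Exact (π'.baseChange B) (r'.baseChange B) := Module.Flat.lTensor_exact B hex'
  have hsurjB : Surjective (π.baseChange B) := LinearMap.lTensor_surjective B hπ
  constructor
  · rw [injective_iff_map_eq_zero]
    intro t ht
    refine hπB ?_
    rw [map_zero]
    refine (bijective_κ_pi n).1 ?_
    rw [κ_natural, ht, map_zero, LinearMap.zero_comp]
  · intro φ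
    obtain ⟨t, ht⟩ := (bijective_κ_pi n).2 (φ.comp (π.baseChange B))
    have h0 : r'.baseChange B t = 0 := by
      refine (bijective_κ_pi m).1 ?_
      rw [κ_natural, ht, LinearMap.comp_assoc, ← LinearMap.baseChange_comp, hex.linearMap_comp_eq_zero,
        LinearMap.baseChange_zero, LinearMap.comp_zero, map_zero]
    obtain ⟨s, rfl⟩ := (hexB t).1 h0
    refine ⟨s, LinearMap.ext fun z => ?_⟩
    obtain ⟨w, rfl⟩ := hsurjB z
    exact LinearMap.congr_fun ((κ_natural π s).symm.trans ht) w

variable (A) in
theorem shift_bijective {R : Type u} [CommRing R] {S : ShortComplex (ModuleCat.{u} R)} (hS : S.ShortExact)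
    [CategoryTheory.Projective S.X₂] (Y : ModuleCat.{u} R) (r : ℕ) :
    Nonempty (Abelian.Ext.{u} S.X₁ Y (r + 1) ≃ₗ[R] Abelian.Ext.{u} S.X₃ Y (r + 2)) := by
  let φ : Abelian.Ext.{u} S.X₁ Y (r + 1) →ₗ[R] Abelian.Ext.{u} S.X₃ Y (r + 2) :=
    hS.extClass.precompOfLinear R Y (by omega)
  refine ⟨LinearEquiv.ofBijective φ ⟨(injective_iff_map_eq_zero φ).2 fun x hx => ?_, fun e => ?_⟩⟩
  · obtain ⟨y, hy⟩ := Abelian.Ext.contravariant_sequence_exact₁ hS Y x (n₁ := r + 2) (by omega) hx
    rw [Abelian.Ext.eq_zero_of_projective y, Abelian.Ext.comp_zero] at hy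
    exact hy.symm
  · obtain ⟨x, hx⟩ := precomp_extClass_surjective_of_projective_X₂ Y hS (r + 1) e
    exact ⟨x, hx⟩

variable (B N)

theorem nonempty_baseChange_ext [IsNoetherianRing A] [Module.Flat A B] (r : ℕ) :
    ∀ (M : Type u) [AddCommGroup M] [Module A M] [Module.Finite A M],
    Nonempty ((B ⊗[A] Abelian.Ext.{u} (ModuleCat.of A M) (ModuleCat.of A N) r) ≃ₗ[B]
      Abelian.Ext.{u} (ModuleCat.of B (B ⊗[A] M)) (ModuleCat.of B (B ⊗[A] N)) r) := by
  induction r using Nat.strong_induction_on with
  | _ r ih =>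
    intro M _ _ _
    obtain ⟨n, π, hπ⟩ := Module.Finite.exists_fin' A M
    let K := LinearMap.ker π
    haveI : Module.Finite A K := Module.Finite.iff_fg.2 (IsNoetherian.noetherian _)
    have hex : Exact K.subtype π := LinearMap.exact_subtype_ker_map π
    have hdB : Injective (K.subtype.baseChange B) :=
      Module.Flat.lTensor_preserves_injective_linearMap K.subtype K.injective_subtype
    have hexB : Exact (K.subtype.baseChange B) (π.baseChange B) := Module.Flat.lTensor_exact B hex
    have hπB : Surjective (π.baseChange B) := LinearMap.lTensor_surjective B hπ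
    match r with
    | 0 =>
      let e₁ := (Abelian.Ext.linearEquiv₀ (R := A) (X := ModuleCat.of A M) (Y := ModuleCat.of A N)).trans
        ModuleCat.homLinearEquiv
      let e₂ := (Abelian.Ext.linearEquiv₀ (R := B) (X := ModuleCat.of B (B ⊗[A] M))
        (Y := ModuleCat.of B (B ⊗[A] N))).trans ModuleCat.homLinearEquiv
      exact ⟨(e₁.baseChange A B _ _).trans ((LinearEquiv.ofBijective _ (bijective_κ M)).trans e₂.symm)⟩
    | 1 =>
      obtain ⟨e₁⟩ := GrothLib.T1Base26.nonempty_ext_one_equiv (N := N) K.injective_subtype hπ hex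
      obtain ⟨e₂⟩ := GrothLib.T1Base26.nonempty_ext_one_equiv (N := B ⊗[A] N) hdB hπB hexB
      let d' := LinearMap.lcomp A N K.subtype
      let g := (LinearMap.range d').mkQ.baseChange B
      have hg : Surjective g := LinearMap.lTensor_surjective B (Submodule.mkQ_surjective _)
      have hker : LinearMap.ker g = LinearMap.range (d'.baseChange B) := by
        ext x
        exact lTensor_exact B (LinearMap.exact_map_mkQ_range d') (Submodule.mkQ_surjective _) x
      let eK := LinearEquiv.ofBijective (κ (A := A) B N K) (bijective_κ (A := A) (B := B) (N := N) K)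
      refine ⟨(e₁.symm.baseChange A B _ _).trans ((g.quotKerEquivOfSurjective hg).symm.trans
        ((Submodule.quotEquivOfEq _ _ hker).trans ((Submodule.Quotient.equiv _ _ eK ?_).trans e₂)))⟩
      ext φ
      constructor
      · rintro ⟨t, ⟨s, rfl⟩, rfl⟩
        exact ⟨κ B N _ s, (κ_natural _ s).symm⟩
      · rintro ⟨ψ, rfl⟩
        obtain ⟨s, rfl⟩ := (bijective_κ_pi n).2 ψ
        exact ⟨_, ⟨s, rfl⟩, κ_natural _ s⟩
    | r + 2 =>
      let S : ShortComplex (ModuleCat.{u} A) := ShortComplex.mk (ModuleCat.ofHom K.subtype) (ModuleCat.ofHom π)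
        (by ext x; exact hex.apply_apply_eq_zero x)
      have hS : S.ShortExact :=
        { exact := (ShortComplex.moduleCat_exact_iff_range_eq_ker S).2 (LinearMap.exact_iff.1 hex).symm
          mono_f := (ModuleCat.mono_iff_injective _).2 K.injective_subtype
          epi_g := (ModuleCat.epi_iff_surjective _).2 hπ }
      haveI : CategoryTheory.Projective S.X₂ :=
        (IsProjective.iff_projective (R := A) (Fin n → A)).1 inferInstance
      let SB : ShortComplex (ModuleCat.{u} B) := ShortComplex.mk (ModuleCat.ofHom (K.subtype.baseChange B))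
        (ModuleCat.ofHom (π.baseChange B)) (ModuleCat.hom_ext (LinearMap.ext fun x => hexB.apply_apply_eq_zero x))
      have hSB : SB.ShortExact :=
        { exact := (ShortComplex.moduleCat_exact_iff_range_eq_ker SB).2 (LinearMap.exact_iff.1 hexB).symm
          mono_f := (ModuleCat.mono_iff_injective _).2 hdB
          epi_g := (ModuleCat.epi_iff_surjective _).2 hπB }
      haveI : CategoryTheory.Projective SB.X₂ :=
        (IsProjective.iff_projective (R := B) (B ⊗[A] (Fin n → A))).1 inferInstance
      obtain ⟨e₁⟩ := shift_bijective hS (ModuleCat.of A N) r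
      obtain ⟨e₂⟩ := shift_bijective hSB (ModuleCat.of B (B ⊗[A] N)) r
      obtain ⟨e⟩ := ih (r + 1) (by omega) K
      exact ⟨(e₁.symm.baseChange A B _ _).trans (e.trans e₂)⟩

end GrothLib.ExtBC
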